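/-
Helper80, S2332 package (minimal degree of `SL_n(q)`): basic definitions.

`MatGrp F n G`: a group `G` realised as a group of `n × n` matrices over `F` containing every matrix of
determinant one (so `SL_n(F)` and `GL_n(F)` are both instances).  For `D : MatGrp F (m+2) G` we define
* `D.P`  : stabiliser of the line `F e₀` (first column `(*,0,…,0)ᵀ`),
* `D.Q`  : the matrices `1 + e₀ rᵀ`, `r₀ = 0` (unipotent radical of `P`; row `0`),
* `D.Qs` : the matrices `1 + c e_lastᵀ`, `c_last = 0` (last column),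
* `D.Z`  : the matrices `1 + z E_{0,last}`,
* `D.Q0` : the matrices `1 + e₀ rᵀ`, `r₀ = r₁ = 0`,
* `D.tv u ψ h` : the transvection `1 + u ψᵀ` (`ψ·u = 0`), `D.t0 = 1 + E₀₁`,
* `D.iota : GL_{m+1}(F) →* G`, `h ↦ diag((det h)⁻¹, h)`, `D.L0 = range iota`,
* `D.C`  : the matrices `diag(s,1,…,1)` lying in `G`.
-/
import Mathlib

set_option autoImplicit false
set_option linter.unusedSectionVars false
set_option linter.unusedSimpArgs false

namespace Cfsg.Agent.Helper80.LS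

open Matrix

/-- A group realised as a group of `n × n` matrices over `F` containing all matrices of determinant `1`. -/
structure MatGrp (F : Type*) [Field F] (n : ℕ) (G : Type*) [Group G] where
  φ : G →* Matrix (Fin n) (Fin n) F
  inj : Function.Injective φ
  surj : ∀ A : Matrix (Fin n) (Fin n) F, A.det = 1 → ∃ g, φ g = A

/-- `G` contains all invertible matrices. -/
def MatGrp.Full {F : Type*} [Field F] {n : ℕ} {G : Type*} [Group G] (D : MatGrp F n G) : Prop :=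
  ∀ A : Matrix (Fin n) (Fin n) F, A.det ≠ 0 → ∃ g, D.φ g = A

section basic
variable {F : Type*} [Field F] {n : ℕ} {G : Type*} [Group G] (D : MatGrp F n G)

theorem MatGrp.φ_mul_inv (g : G) : D.φ g * D.φ g⁻¹ = 1 := by
  rw [← map_mul, mul_inv_cancel, map_one]

theorem MatGrp.φ_inv_mul (g : G) : D.φ g⁻¹ * D.φ g = 1 := by
  rw [← map_mul, inv_mul_cancel, map_one]

theorem MatGrp.φ_inv_eq {g : G} {B : Matrix (Fin n) (Fin n) F} (h : D.φ g * B = 1) : D.φ g⁻¹ = B := by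
  calc D.φ g⁻¹ = D.φ g⁻¹ * (D.φ g * B) := by rw [h, mul_one]
    _ = B := by rw [← mul_assoc, D.φ_inv_mul, one_mul]

theorem MatGrp.φ_inv (g : G) : D.φ g⁻¹ = (D.φ g)⁻¹ :=
  (Matrix.inv_eq_left_inv (D.φ_inv_mul g)).symm

theorem MatGrp.ext {g h : G} (hgh : D.φ g = D.φ h) : g = h := D.inj hgh

theorem MatGrp.eq_one_of_φ {g : G} (hg : D.φ g = 1) : g = 1 := D.inj (by rw [hg, map_one])

theorem MatGrp.det_ne_zero (g : G) : (D.φ g).det ≠ 0 := by
  intro h
  have := congrArg Matrix.det (D.φ_mul_inv g)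
  rw [Matrix.det_mul, h, zero_mul, Matrix.det_one] at this
  exact zero_ne_one this

theorem MatGrp.mulVec_inv_mulVec (g : G) (v : Fin n → F) : D.φ g⁻¹ *ᵥ (D.φ g *ᵥ v) = v := by
  rw [Matrix.mulVec_mulVec, D.φ_inv_mul, Matrix.one_mulVec]

theorem MatGrp.mulVec_mulVec_inv (g : G) (v : Fin n → F) : D.φ g *ᵥ (D.φ g⁻¹ *ᵥ v) = v := by
  rw [Matrix.mulVec_mulVec, D.φ_mul_inv, Matrix.one_mulVec]

end basic

section vectors
variable (F : Type*) [Field F] (m : ℕ)

/-- first basis vector -/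
def e0 : Fin (m + 2) → F := Pi.single 0 1
/-- second basis vector -/
def e1 : Fin (m + 2) → F := Pi.single 1 1
/-- last basis vector -/
def eL : Fin (m + 2) → F := Pi.single (Fin.last (m + 1)) 1

end vectors

section vec_lemmas
variable {F : Type*} [Field F] {m : ℕ}

theorem dot_e0 (r : Fin (m + 2) → F) : r ⬝ᵥ e0 F m = r 0 := by
  unfold e0; rw [dotProduct_single, mul_one]

theorem dot_e1 (r : Fin (m + 2) → F) : r ⬝ᵥ e1 F m = r 1 := by
  unfold e1; rw [dotProduct_single, mul_one]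

theorem dot_eL (r : Fin (m + 2) → F) : r ⬝ᵥ eL F m = r (Fin.last (m + 1)) := by
  unfold eL; rw [dotProduct_single, mul_one]

theorem e0_dot (r : Fin (m + 2) → F) : e0 F m ⬝ᵥ r = r 0 := by
  rw [dotProduct_comm, dot_e0]

theorem e1_dot (r : Fin (m + 2) → F) : e1 F m ⬝ᵥ r = r 1 := by
  rw [dotProduct_comm, dot_e1]

theorem eL_dot (r : Fin (m + 2) → F) : eL F m ⬝ᵥ r = r (Fin.last (m + 1)) := by
  rw [dotProduct_comm, dot_eL]

theorem fin_zero_ne_one : (0 : Fin (m + 2)) ≠ 1 := by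
  intro h; exact absurd (congrArg Fin.val h) (by simp)

theorem fin_zero_ne_last : (0 : Fin (m + 2)) ≠ Fin.last (m + 1) := by
  intro h; exact absurd (congrArg Fin.val h) (by simp)

theorem e0_ne_zero : e0 F m ≠ 0 := by
  intro h; have := congrFun h 0; simp [e0] at this

theorem e1_ne_zero : e1 F m ≠ 0 := by
  intro h; have := congrFun h 1; simp [e1] at this

theorem eL_ne_zero : eL F m ≠ 0 := by
  intro h; have := congrFun h (Fin.last (m + 1)); simp [eL] at this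

theorem e1_zero : e1 F m 0 = 0 := by
  unfold e1; rw [Pi.single_apply, if_neg fin_zero_ne_one]

theorem eL_zero : eL F m 0 = 0 := by
  unfold eL; rw [Pi.single_apply, if_neg fin_zero_ne_last]

theorem e0_last : e0 F m (Fin.last (m + 1)) = 0 := by
  unfold e0; rw [Pi.single_apply, if_neg (Ne.symm fin_zero_ne_last)]

/-- `(1 + u ψᵀ)(1 + u' ψ'ᵀ) = 1 + u ψᵀ + u' ψ'ᵀ + (ψ·u') u ψ'ᵀ`. -/
theorem one_add_vecMulVec_mul {ι : Type*} [Fintype ι] [DecidableEq ι] (u ψ u' ψ' : ι → F) :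
    (1 + vecMulVec u ψ) * (1 + vecMulVec u' ψ') =
      1 + vecMulVec u ψ + vecMulVec u' ψ' + (ψ ⬝ᵥ u') • vecMulVec u ψ' := by
  rw [Matrix.add_mul, Matrix.mul_add, Matrix.mul_add, Matrix.one_mul, Matrix.one_mul, Matrix.mul_one,
    vecMulVec_mul_vecMulVec]
  ext i j
  simp only [Matrix.add_apply, vecMulVec_apply, Matrix.smul_apply, smul_eq_mul, Pi.smul_apply]
  ring

theorem det_one_add_vecMulVec {ι : Type*} [Fintype ι] [DecidableEq ι] (u ψ : ι → F) :
    (1 + vecMulVec u ψ).det = 1 + ψ ⬝ᵥ u := by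
  rw [vecMulVec_eq Unit, det_one_add_replicateCol_mul_replicateRow]

theorem one_add_vecMulVec_mulVec {ι : Type*} [Fintype ι] [DecidableEq ι] (u ψ v : ι → F) :
    (1 + vecMulVec u ψ) *ᵥ v = v + (ψ ⬝ᵥ v) • u := by
  rw [Matrix.add_mulVec, Matrix.one_mulVec, vecMulVec_mulVec]
  ext i
  simp [mul_comm]

/-- `A (1 + u ψᵀ) = (1 + (A u) (ψ A⁻¹)ᵀ) A`, stated without inverses: if `ψ' A = ψ` then
`A (1 + u ψᵀ) = (1 + (A u) ψ'ᵀ) A`. -/
theorem mul_one_add_vecMulVec {ι : Type*} [Fintype ι] [DecidableEq ι] (A : Matrix ι ι F)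
    (u ψ ψ' : ι → F) (h : ψ' ᵥ* A = ψ) :
    A * (1 + vecMulVec u ψ) = (1 + vecMulVec (A *ᵥ u) ψ') * A := by
  rw [Matrix.mul_add, Matrix.add_mul, Matrix.mul_one, Matrix.one_mul, Matrix.mul_vecMulVec,
    Matrix.vecMulVec_mul, h]

end vec_lemmas

section blockdiag
variable {F : Type*} [Field F] {m : ℕ}

/-- the block matrix `diag(c, A)` -/
def bd (c : F) (A : Matrix (Fin (m + 1)) (Fin (m + 1)) F) : Matrix (Fin (m + 2)) (Fin (m + 2)) F :=
  Matrix.of fun i j =>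
    Fin.cases (Fin.cases c (fun _ => 0) j) (fun i' => Fin.cases 0 (fun j' => A i' j') j) i

@[simp] theorem bd_zero_zero (c : F) (A : Matrix (Fin (m + 1)) (Fin (m + 1)) F) : bd c A 0 0 = c := rfl
@[simp] theorem bd_zero_succ (c : F) (A : Matrix (Fin (m + 1)) (Fin (m + 1)) F) (j : Fin (m + 1)) :
    bd c A 0 j.succ = 0 := rfl
@[simp] theorem bd_succ_zero (c : F) (A : Matrix (Fin (m + 1)) (Fin (m + 1)) F) (i : Fin (m + 1)) :
    bd c A i.succ 0 = 0 := rfl
@[simp] theorem bd_succ_succ (c : F) (A : Matrix (Fin (m + 1)) (Fin (m + 1)) F) (i j : Fin (m + 1)) :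
    bd c A i.succ j.succ = A i j := rfl

theorem bd_mul (c c' : F) (A A' : Matrix (Fin (m + 1)) (Fin (m + 1)) F) :
    bd c A * bd c' A' = bd (c * c') (A * A') := by
  ext i j
  rw [Matrix.mul_apply, Fin.sum_univ_succ]
  refine Fin.cases ?_ (fun i' => ?_) i <;> refine Fin.cases ?_ (fun j' => ?_) j
  · simp
  · simp
  · simp
  · simp [Matrix.mul_apply]

theorem bd_one : bd (1 : F) (1 : Matrix (Fin (m + 1)) (Fin (m + 1)) F) = 1 := by
  ext i j
  refine Fin.cases ?_ (fun i' => ?_) i <;> refine Fin.cases ?_ (fun j' => ?_) j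
  · simp
  · simp [Matrix.one_apply, Fin.succ_ne_zero, (Fin.succ_ne_zero _).symm]
  · simp [Matrix.one_apply, Fin.succ_ne_zero]
  · simp [Matrix.one_apply]

theorem det_bd (c : F) (A : Matrix (Fin (m + 1)) (Fin (m + 1)) F) : (bd c A).det = c * A.det := by
  rw [Matrix.det_succ_row_zero, Fin.sum_univ_succ]
  have h0 : (bd c A).submatrix Fin.succ (Fin.succAbove 0) = A := by
    ext i j; simp
  rw [h0]
  simp

theorem bd_injective {c c' : F} {A A' : Matrix (Fin (m + 1)) (Fin (m + 1)) F} (h : bd c A = bd c' A') :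
    c = c' ∧ A = A' := by
  refine ⟨by simpa using congrFun (congrFun h 0) 0, ?_⟩
  ext i j
  simpa using congrFun (congrFun h i.succ) j.succ

end blockdiag

section subgroups
variable {F : Type*} [Field F] {m : ℕ} {G : Type*} [Group G] (D : MatGrp F (m + 2) G)

/-- the transvection `1 + u ψᵀ` as an element of `G` -/
noncomputable def MatGrp.tv (u ψ : Fin (m + 2) → F) (h : ψ ⬝ᵥ u = 0) : G :=
  Classical.choose (D.surj (1 + vecMulVec u ψ) (by rw [det_one_add_vecMulVec, h, add_zero]))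

theorem MatGrp.φ_tv (u ψ : Fin (m + 2) → F) (h : ψ ⬝ᵥ u = 0) :
    D.φ (D.tv u ψ h) = 1 + vecMulVec u ψ :=
  Classical.choose_spec (D.surj (1 + vecMulVec u ψ) (by rw [det_one_add_vecMulVec, h, add_zero]))

/-- the basic transvection `1 + E₀₁` -/
noncomputable def MatGrp.t0 : G := D.tv (e0 F m) (e1 F m) (by rw [e1_dot, e0, Pi.single_apply,
  if_neg (Ne.symm fin_zero_ne_one)])

theorem MatGrp.φ_t0 : D.φ D.t0 = 1 + vecMulVec (e0 F m) (e1 F m) := D.φ_tv _ _ _

/-- stabiliser of the line `F e₀` -/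
def MatGrp.P : Subgroup G where
  carrier := {g | ∃ c : F, D.φ g *ᵥ e0 F m = c • e0 F m}
  one_mem' := ⟨1, by rw [map_one, Matrix.one_mulVec, one_smul]⟩
  mul_mem' := by
    rintro g h ⟨c, hc⟩ ⟨d, hd⟩
    exact ⟨d * c, by rw [map_mul, ← Matrix.mulVec_mulVec, hd, Matrix.mulVec_smul, hc, smul_smul]⟩
  inv_mem' := by
    rintro g ⟨c, hc⟩
    have hc0 : c ≠ 0 := by
      rintro rfl
      rw [zero_smul] at hc
      have := D.mulVec_inv_mulVec g (e0 F m)
      rw [hc, Matrix.mulVec_zero] at this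
      exact e0_ne_zero this.symm
    refine ⟨c⁻¹, ?_⟩
    have h1 := D.mulVec_inv_mulVec g (e0 F m)
    rw [hc, Matrix.mulVec_smul] at h1
    calc D.φ g⁻¹ *ᵥ e0 F m = c⁻¹ • (c • D.φ g⁻¹ *ᵥ e0 F m) := by
          rw [smul_smul, inv_mul_cancel₀ hc0, one_smul]
      _ = c⁻¹ • e0 F m := by rw [h1]

theorem MatGrp.mem_P {g : G} : g ∈ D.P ↔ ∃ c : F, D.φ g *ᵥ e0 F m = c • e0 F m := Iff.rfl

/-- the matrices `1 + e₀ rᵀ`, `r₀ = 0` -/
def MatGrp.Q : Subgroup G where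
  carrier := {g | ∃ r : Fin (m + 2) → F, r 0 = 0 ∧ D.φ g = 1 + vecMulVec (e0 F m) r}
  one_mem' := ⟨0, rfl, by rw [map_one, vecMulVec_zero, add_zero]⟩
  mul_mem' := by
    rintro g h ⟨r, hr, hg⟩ ⟨s, hs, hh⟩
    refine ⟨r + s, by rw [Pi.add_apply, hr, hs, add_zero], ?_⟩
    rw [map_mul, hg, hh, one_add_vecMulVec_mul, dot_e0, hr, zero_smul, add_zero, vecMulVec_add,
      add_assoc]
  inv_mem' := by
    rintro g ⟨r, hr, hg⟩
    refine ⟨-r, by rw [Pi.neg_apply, hr, neg_zero], ?_⟩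
    apply D.φ_inv_eq
    rw [hg, one_add_vecMulVec_mul, dot_e0, hr, zero_smul, add_zero,
      vecMulVec_neg, add_neg_cancel_right]

theorem MatGrp.mem_Q {g : G} :
    g ∈ D.Q ↔ ∃ r : Fin (m + 2) → F, r 0 = 0 ∧ D.φ g = 1 + vecMulVec (e0 F m) r := Iff.rfl

/-- the matrices `1 + e₀ rᵀ`, `r₀ = r₁ = 0` -/
def MatGrp.Q0 : Subgroup G where
  carrier := {g | ∃ r : Fin (m + 2) → F, r 0 = 0 ∧ r 1 = 0 ∧ D.φ g = 1 + vecMulVec (e0 F m) r}
  one_mem' := ⟨0, rfl, rfl, by rw [map_one, vecMulVec_zero, add_zero]⟩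
  mul_mem' := by
    rintro g h ⟨r, hr, hr1, hg⟩ ⟨s, hs, hs1, hh⟩
    refine ⟨r + s, by rw [Pi.add_apply, hr, hs, add_zero], by rw [Pi.add_apply, hr1, hs1, add_zero], ?_⟩
    rw [map_mul, hg, hh, one_add_vecMulVec_mul, dot_e0, hr, zero_smul, add_zero, vecMulVec_add,
      add_assoc]
  inv_mem' := by
    rintro g ⟨r, hr, hr1, hg⟩
    refine ⟨-r, by rw [Pi.neg_apply, hr, neg_zero], by rw [Pi.neg_apply, hr1, neg_zero], ?_⟩
    apply D.φ_inv_eq
    rw [hg, one_add_vecMulVec_mul, dot_e0, hr, zero_smul, add_zero,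
      vecMulVec_neg, add_neg_cancel_right]

theorem MatGrp.mem_Q0 {g : G} :
    g ∈ D.Q0 ↔ ∃ r : Fin (m + 2) → F, r 0 = 0 ∧ r 1 = 0 ∧ D.φ g = 1 + vecMulVec (e0 F m) r := Iff.rfl

/-- the matrices `1 + c e_lastᵀ`, `c_last = 0` -/
def MatGrp.Qs : Subgroup G where
  carrier := {g | ∃ c : Fin (m + 2) → F, c (Fin.last (m + 1)) = 0 ∧ D.φ g = 1 + vecMulVec c (eL F m)}
  one_mem' := ⟨0, rfl, by rw [map_one, zero_vecMulVec, add_zero]⟩
  mul_mem' := by
    rintro g h ⟨r, hr, hg⟩ ⟨s, hs, hh⟩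
    refine ⟨r + s, by rw [Pi.add_apply, hr, hs, add_zero], ?_⟩
    rw [map_mul, hg, hh, one_add_vecMulVec_mul, eL_dot, hs, zero_smul, add_zero, add_vecMulVec,
      add_assoc]
  inv_mem' := by
    rintro g ⟨r, hr, hg⟩
    refine ⟨-r, by rw [Pi.neg_apply, hr, neg_zero], ?_⟩
    apply D.φ_inv_eq
    rw [hg, one_add_vecMulVec_mul, eL_dot, Pi.neg_apply, hr, neg_zero, zero_smul, add_zero,
      neg_vecMulVec, add_neg_cancel_right]

theorem MatGrp.mem_Qs {g : G} :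
    g ∈ D.Qs ↔ ∃ c : Fin (m + 2) → F, c (Fin.last (m + 1)) = 0 ∧
      D.φ g = 1 + vecMulVec c (eL F m) := Iff.rfl

/-- the matrices `1 + z E_{0,last}` -/
def MatGrp.Z : Subgroup G where
  carrier := {g | ∃ z : F, D.φ g = 1 + vecMulVec (e0 F m) (z • eL F m)}
  one_mem' := ⟨0, by rw [map_one, zero_smul, vecMulVec_zero, add_zero]⟩
  mul_mem' := by
    rintro g h ⟨z, hg⟩ ⟨w, hh⟩
    refine ⟨z + w, ?_⟩
    rw [map_mul, hg, hh, one_add_vecMulVec_mul, dot_e0, Pi.smul_apply, eL_zero, smul_zero, zero_smul,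
      add_zero, add_smul, vecMulVec_add, add_assoc]
  inv_mem' := by
    rintro g ⟨z, hg⟩
    refine ⟨-z, ?_⟩
    apply D.φ_inv_eq
    rw [hg, one_add_vecMulVec_mul, dot_e0, Pi.smul_apply, eL_zero, smul_zero, zero_smul, add_zero,
      neg_smul, vecMulVec_neg, add_neg_cancel_right]

theorem MatGrp.mem_Z {g : G} :
    g ∈ D.Z ↔ ∃ z : F, D.φ g = 1 + vecMulVec (e0 F m) (z • eL F m) := Iff.rfl

/-- the matrices `diag(s,1,…,1)` of `G` -/
def MatGrp.C : Subgroup G where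
  carrier := {g | ∃ s : Fˣ, D.φ g = bd (s : F) 1}
  one_mem' := ⟨1, by rw [map_one, Units.val_one, bd_one]⟩
  mul_mem' := by
    rintro g h ⟨s, hg⟩ ⟨t, hh⟩
    exact ⟨s * t, by rw [map_mul, hg, hh, bd_mul, mul_one, Units.val_mul]⟩
  inv_mem' := by
    rintro g ⟨s, hg⟩
    refine ⟨s⁻¹, ?_⟩
    apply D.φ_inv_eq
    rw [hg, bd_mul, mul_one, Units.mul_inv, bd_one]

theorem MatGrp.mem_C {g : G} : g ∈ D.C ↔ ∃ s : Fˣ, D.φ g = bd (s : F) 1 := Iff.rfl

theorem MatGrp.det_iota_aux (h : GL (Fin (m + 1)) F) :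
    (bd ((h : Matrix (Fin (m + 1)) (Fin (m + 1)) F).det)⁻¹
      (h : Matrix (Fin (m + 1)) (Fin (m + 1)) F)).det = 1 := by
  rw [det_bd]
  exact inv_mul_cancel₀ (Matrix.GeneralLinearGroup.det h).ne_zero

/-- the embedding `GL_{m+1}(F) → G`, `h ↦ diag((det h)⁻¹, h)` -/
noncomputable def MatGrp.iota : GL (Fin (m + 1)) F →* G where
  toFun h := Classical.choose (D.surj _ (MatGrp.det_iota_aux h))
  map_one' := by
    apply D.inj
    rw [Classical.choose_spec (D.surj _ (MatGrp.det_iota_aux (1 : GL (Fin (m + 1)) F))), map_one]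
    simp [bd_one]
  map_mul' a b := by
    apply D.inj
    rw [map_mul, Classical.choose_spec (D.surj _ (MatGrp.det_iota_aux (a * b))),
      Classical.choose_spec (D.surj _ (MatGrp.det_iota_aux a)),
      Classical.choose_spec (D.surj _ (MatGrp.det_iota_aux b)), bd_mul]
    simp [mul_comm]

theorem MatGrp.φ_iota (h : GL (Fin (m + 1)) F) :
    D.φ (D.iota h) = bd ((h : Matrix (Fin (m + 1)) (Fin (m + 1)) F).det)⁻¹
      (h : Matrix (Fin (m + 1)) (Fin (m + 1)) F) :=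
  Classical.choose_spec (D.surj _ (MatGrp.det_iota_aux h))

theorem MatGrp.iota_injective : Function.Injective D.iota := by
  intro a b hab
  have h := congrArg D.φ hab
  rw [D.φ_iota, D.φ_iota] at h
  exact Units.ext (bd_injective h).2

/-- the Levi complement `≅ GL_{m+1}(F)` -/
noncomputable def MatGrp.L0 : Subgroup G := D.iota.range

/-- `L0 ≃* GL_{m+1}(F)` -/
noncomputable def MatGrp.L0Equiv : GL (Fin (m + 1)) F ≃* D.L0 :=
  MonoidHom.ofInjective D.iota_injective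

/-- elements normalising `Q` and `Qs` and centralising `Q/Q0` -/
def MatGrp.S3a : Set G :=
  {g | (∀ x ∈ D.Q, g * x * g⁻¹ ∈ D.Q) ∧ (∀ y ∈ D.Qs, g * y * g⁻¹ ∈ D.Qs) ∧
    ∀ x ∈ D.Q, g * x * g⁻¹ * x⁻¹ ∈ D.Q0}

/-- the generation property needed in the Heisenberg lemma (A7) -/
def MatGrp.Has3a : Prop :=
  D.Qs ≤ Subgroup.closure ((D.Z : Set G) ∪
    {w | ∃ g ∈ D.S3a, ∃ y ∈ D.Qs, w = g * y * g⁻¹ * y⁻¹})

end subgroups

section instances
variable (F : Type*) [Field F] (n : ℕ)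

/-- `SL_n(F)` as a matrix group -/
def slMatGrp : MatGrp F n (Matrix.SpecialLinearGroup (Fin n) F) where
  φ := Matrix.SpecialLinearGroup.coeMonoidHom
  inj := Matrix.SpecialLinearGroup.coeMonoidHom_injective
  surj A hA := ⟨⟨A, hA⟩, rfl⟩

/-- `GL_n(F)` as a matrix group -/
noncomputable def glMatGrp : MatGrp F n (GL (Fin n) F) where
  φ := Units.coeHom _
  inj := Units.val_injective
  surj A hA := ⟨Matrix.GeneralLinearGroup.mkOfDetNeZero A (by rw [hA]; exact one_ne_zero), rfl⟩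

theorem glMatGrp_full : (glMatGrp F n).Full := fun A hA =>
  ⟨Matrix.GeneralLinearGroup.mkOfDetNeZero A hA, rfl⟩

end instances

end Cfsg.Agent.Helper80.LS
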