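/-
Helper80, S2332 package: abstract pieces (A2) and (A3).
-/
import Mathlib
import Cfsg.Prelude.Def_Blocks
import Cfsg.Agent.Helper80.Degree
import Cfsg.Agent.Helper80.OneChar

set_option autoImplicit false
set_option linter.unusedSectionVars false

namespace Cfsg.Agent.Helper80.LS

open Cfsg

universe u

variable {G : Type u} [Group G] [Finite G]

/-- (A2) an irreducible character with `t0` in its kernel, where the normal closure of `t0` contains the
commutator subgroup, is linear. -/
theorem A2_linear_of_ker {χ : G → ℂ} (hχ : IsIrrCharacter G χ) (t0 : G)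
    (hcomm : commutator G ≤ Subgroup.normalClosure ({t0} : Set G)) (ht : χ t0 = χ 1) :
    charDegree χ = 1 := by
  have hc := IsIrrCharacter.isCharacter hχ
  apply IsIrrCharacter.charDegree_eq_one_of_commutator_le hχ
  intro g hg
  have h1 : Subgroup.normalClosure ({t0} : Set G) ≤ kerChar χ hc := by
    apply Subgroup.normalClosure_le_normal
    intro x hx
    rw [Set.mem_singleton_iff] at hx
    rw [hx]
    exact (mem_kerChar hc t0).mpr ht
  exact (mem_kerChar hc g).mp (h1 (hcomm hg))

/-- (A3) class sum integrality: `χ(1) ∣ |class(t0)| · e · r` when `χ(1) = a + e(r-1)`, `χ(t0) = a - e`. -/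
theorem A3_degree_dvd {χ : G → ℂ} (hχ : IsIrrCharacter G χ) (t0 : G) (a e r : ℕ)
    (h1 : χ 1 = (a : ℂ) + e * ((r : ℂ) - 1)) (ht : χ t0 = (a : ℂ) - e) :
    charDegree χ ∣ (Subgroup.centralizer ({t0} : Set G)).index * (e * r) := by
  have hc := IsIrrCharacter.isCharacter hχ
  have hint := IsIrrCharacter.isIntegral_centralChar hχ t0
  have hd := IsCharacter.charDegree_cast hc
  have hpos := IsIrrCharacter.charDegree_pos hχ
  have hne : (charDegree χ : ℂ) ≠ 0 := by exact_mod_cast hpos.ne'
  set K := (Subgroup.centralizer ({t0} : Set G)).index with hK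
  apply dvd_of_isIntegral_div hpos.ne'
  have h2 : ((K * (e * r) : ℕ) : ℂ) / (charDegree χ : ℂ) = (K : ℂ) - centralChar χ t0 := by
    rw [centralChar, ← hK, ← hd, ht]
    have h3 : (charDegree χ : ℂ) = (a : ℂ) + e * ((r : ℂ) - 1) := by rw [hd, h1]
    field_simp
    push_cast
    rw [h3]
    ring
  rw [h2]
  have hK' : IsIntegral ℤ (K : ℂ) := by
    have : (K : ℂ) = algebraMap ℤ ℂ (K : ℤ) := by simp
    rw [this]
    exact isIntegral_algebraMap
  exact IsIntegral.sub hK' hint

end Cfsg.Agent.Helper80.LS
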