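/-
Helper80, S2332 package: arithmetic.
-/
import Mathlib

set_option autoImplicit false
set_option linter.unusedSectionVars false
set_option linter.unusedVariables false

namespace Cfsg.Agent.Helper80.LS

/-- `(q^k - 1)/(q - 1)` -/
def Mq (q k : ℕ) : ℕ := (q ^ k - 1) / (q - 1)

/-- `(q^n - q)/(q - 1)` -/
def Nq (q n : ℕ) : ℕ := (q ^ n - q) / (q - 1)

theorem Mq_spec (q k : ℕ) (hq : 2 ≤ q) : (q - 1) * Mq q k = q ^ k - 1 :=
  Nat.mul_div_cancel' (Nat.sub_one_dvd_pow_sub_one q k)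

theorem Mq_succ (q k : ℕ) (hq : 2 ≤ q) : Mq q (k + 1) = q ^ k + Mq q k := by
  have h1 := Mq_spec q (k + 1) hq
  have h2 := Mq_spec q k hq
  have hpos : 0 < q - 1 := by omega
  apply Nat.eq_of_mul_eq_mul_left hpos
  rw [h1, mul_add, h2]
  have h3 : 1 ≤ q ^ k := Nat.one_le_pow _ _ (by omega)
  have h4 : q ^ (k + 1) = (q - 1) * q ^ k + q ^ k := by
    rw [pow_succ]
    have : q = (q - 1) + 1 := by omega
    nth_rewrite 2 [this]
    ring
  omega

theorem Mq_zero (q : ℕ) : Mq q 0 = 0 := by simp [Mq]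

theorem Mq_one (q : ℕ) (hq : 2 ≤ q) : Mq q 1 = 1 := by
  rw [Mq_succ q 0 hq, Mq_zero]; simp

theorem Mq_two (q : ℕ) (hq : 2 ≤ q) : Mq q 2 = q + 1 := by
  rw [Mq_succ q 1 hq, Mq_one q hq]; simp

theorem Mq_three (q : ℕ) (hq : 2 ≤ q) : Mq q 3 = q ^ 2 + q + 1 := by
  rw [Mq_succ q 2 hq, Mq_two q hq]; ring

theorem Nq_eq (q k : ℕ) (hq : 2 ≤ q) : Nq q (k + 1) = q * Mq q k := by
  unfold Nq
  have h2 := Mq_spec q k hq
  have h3 : 1 ≤ q ^ k := Nat.one_le_pow _ _ (by omega)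
  have h4 : q ^ (k + 1) - q = (q - 1) * (q * Mq q k) := by
    rw [← mul_assoc, mul_comm (q - 1) q, mul_assoc, h2, pow_succ, Nat.mul_sub, mul_one, mul_comm]
  rw [h4, Nat.mul_div_cancel_left _ (by omega : 0 < q - 1)]

theorem Nq_eq' (q k : ℕ) (hq : 2 ≤ q) : Nq q (k + 1) = q ^ k - 1 + Mq q k := by
  rw [Nq_eq q k hq, ← Mq_spec q k hq]
  have : q = (q - 1) + 1 := by omega
  nth_rewrite 1 [this]
  ring

theorem Nq_add_one (q k : ℕ) (hq : 2 ≤ q) : Nq q (k + 1) + 1 = Mq q (k + 1) := by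
  rw [Nq_eq' q k hq, Mq_succ q k hq]
  have h3 : 1 ≤ q ^ k := Nat.one_le_pow _ _ (by omega)
  omega

theorem Mq_le (q k : ℕ) (hq : 2 ≤ q) : Mq q k ≤ q ^ k - 1 := by
  have h := Mq_spec q k hq
  calc Mq q k = 1 * Mq q k := (one_mul _).symm
    _ ≤ (q - 1) * Mq q k := Nat.mul_le_mul_right _ (by omega)
    _ = q ^ k - 1 := h

theorem Mq_pos (q k : ℕ) (hq : 2 ≤ q) (hk : 1 ≤ k) : 1 ≤ Mq q k := by
  obtain ⟨k', rfl⟩ : ∃ k', k = k' + 1 := ⟨k - 1, by omega⟩
  rw [Mq_succ q k' hq]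
  have h3 : 1 ≤ q ^ k' := Nat.one_le_pow _ _ (by omega)
  omega

/-- `idx = r + M` -/
theorem idx_eq (q k idx : ℕ) (hq : 2 ≤ q) (h : idx * (q - 1) = q ^ (k + 1) - 1) :
    idx = Mq q (k + 1) := by
  have h1 := Mq_spec q (k + 1) hq
  apply Nat.eq_of_mul_eq_mul_left (by omega : 0 < q - 1)
  rw [h1, mul_comm, h]


theorem sub_one_mul_add (q x : ℕ) (hq : 1 ≤ q) : (q - 1) * x + x = q * x := by
  obtain ⟨t, rfl⟩ : ∃ t, q = t + 1 := ⟨q - 1, by omega⟩
  have : t + 1 - 1 = t := by omega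
  rw [this]; ring

/-- the degree predicate for the non-linear irreducible characters of `GL_n(q)` -/
def GoodDeg (q n d : ℕ) : Prop :=
  if n = 2 then q - 1 ≤ d
  else if n = 3 then (if q = 2 then 3 ≤ d else if q = 4 then 18 ≤ d else Nq q 3 ≤ d)
  else if n = 4 then (if q = 2 then (d = 7 ∨ d = 8 ∨ d = 10 ∨ d = 12 ∨ 14 ≤ d) else Nq q 4 ≤ d)
  else Nq q n ≤ d

theorem closure_ge (S : Set ℕ) (B : ℕ) (hS : ∀ d ∈ S, B ≤ d) (a : ℕ)
    (ha : a ∈ AddSubmonoid.closure S) (ha0 : a ≠ 0) : B ≤ a := by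
  have key : ∀ x ∈ AddSubmonoid.closure S, x = 0 ∨ B ≤ x := by
    intro x hx
    induction hx using AddSubmonoid.closure_induction with
    | mem x hx => exact Or.inr (hS x hx)
    | zero => exact Or.inl rfl
    | add x y _ _ hx hy =>
      rcases hx with rfl | hx
      · rcases hy with rfl | hy
        · left; rfl
        · right; omega
      · right; omega
  rcases key a ha with h | h
  · exact absurd h ha0
  · exact h

theorem closure_42 (S : Set ℕ) (hS : ∀ d ∈ S, d = 7 ∨ d = 8 ∨ d = 10 ∨ d = 12 ∨ 14 ≤ d) (a : ℕ)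
    (ha : a ∈ AddSubmonoid.closure S) (ha0 : a ≠ 0) : a = 7 ∨ a = 8 ∨ a = 10 ∨ a = 12 ∨ 14 ≤ a := by
  have key : ∀ x ∈ AddSubmonoid.closure S, x = 0 ∨ x = 7 ∨ x = 8 ∨ x = 10 ∨ x = 12 ∨ 14 ≤ x := by
    intro x hx
    induction hx using AddSubmonoid.closure_induction with
    | mem x hx => exact Or.inr (hS x hx)
    | zero => exact Or.inl rfl
    | add x y _ _ hx hy => omega
  rcases key a ha with h | h
  · exact absurd h ha0
  · exact h

/-- general exclusion: `d = N - 1 = qM - 1` does not divide `(d+2)(r-1)r`. -/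
theorem excl_general (q M r d k : ℕ) (hq : 2 ≤ q) (hM : 2 ≤ M) (hr : r - 1 = (q - 1) * M)
    (hr1 : 1 ≤ r) (hrk : r = q ^ k) (hd : d + 1 = q * M) (hdvd : d ∣ (d + 2) * (r - 1) * r) :
    False := by
  have hcop : Nat.Coprime d q := by
    have h1 : Nat.gcd d q ∣ d := Nat.gcd_dvd_left d q
    have h2 : Nat.gcd d q ∣ q * M := (Nat.gcd_dvd_right d q).mul_right M
    rw [← hd] at h2
    have h3 : Nat.gcd d q ∣ 1 := (Nat.dvd_add_right h1).mp h2
    exact Nat.dvd_one.mp h3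
  have hcop' : Nat.Coprime d r := by rw [hrk]; exact hcop.pow_right k
  have h1 : d ∣ (d + 2) * (r - 1) := hcop'.dvd_of_dvd_mul_right hdvd
  have h2 : d ∣ 2 * (r - 1) := by
    have : (d + 2) * (r - 1) = d * (r - 1) + 2 * (r - 1) := by ring
    rw [this] at h1
    exact (Nat.dvd_add_right (dvd_mul_right d (r - 1))).mp h1
  have hqM : 2 * M ≤ q * M := Nat.mul_le_mul_right M hq
  have hlt : r - 1 < d := by
    have : (q - 1) * M + M = q * M := by
      have : q = (q - 1) + 1 := by omega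
      nth_rewrite 2 [this]; ring
    omega
  have hpos : 0 < 2 * (r - 1) := by
    have : 0 < (q - 1) * M := Nat.mul_pos (by omega) (by omega)
    omega
  obtain ⟨c, hc⟩ := h2
  have hc1 : c = 1 := by
    rcases c with _ | _ | c
    · omega
    · rfl
    · exfalso
      have : d * (c + 1 + 1) = d * c + 2 * d := by ring
      rw [this] at hc
      omega
  rw [hc1, mul_one] at hc
  have : (q - 1) * M + M = q * M := by
    have : q = (q - 1) + 1 := by omega
    nth_rewrite 2 [this]; ring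
  omega


theorem not_primePow_ten : ¬ ∃ p j : ℕ, Nat.Prime p ∧ 10 = p ^ j := by
  rintro ⟨p, j, hp, h⟩
  have h2 : 2 ∣ p ^ j := ⟨5, by omega⟩
  have h5 : 5 ∣ p ^ j := ⟨2, by omega⟩
  have h2' := (Nat.prime_dvd_prime_iff_eq Nat.prime_two hp).mp (Nat.Prime.dvd_of_dvd_pow Nat.prime_two h2)
  have h5' := (Nat.prime_dvd_prime_iff_eq Nat.prime_five hp).mp (Nat.Prime.dvd_of_dvd_pow Nat.prime_five h5)
  omega

/-- `n = 3`: `a = q - 1` is impossible unless `q ∈ {2, 4}`. -/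
theorem excl_k2 (q d : ℕ) (hq : 3 ≤ q) (hq4 : q ≠ 4) (hpp : ∃ p j : ℕ, Nat.Prime p ∧ q = p ^ j)
    (hd : d = (q - 1) + (q ^ 2 - 1)) (hdvd : d ∣ (q ^ 2 + q + 1) * (q ^ 2 - 1) * q ^ 2) : False := by
  obtain ⟨t, rfl⟩ : ∃ t, q = t + 1 := ⟨q - 1, by omega⟩
  have hd' : d = (t + 3) * t := by
    rw [hd]
    have : (t + 1) ^ 2 - 1 = t ^ 2 + 2 * t := by
      have : (t + 1) ^ 2 = t ^ 2 + 2 * t + 1 := by ring
      omega
    rw [this]
    have : t + 1 - 1 = t := by omega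
    rw [this]; ring
  have hX : ((t + 1) ^ 2 + (t + 1) + 1) * ((t + 1) ^ 2 - 1) * (t + 1) ^ 2 =
      t * (((t + 1) ^ 2 + (t + 1) + 1) * (t + 2) * (t + 1) ^ 2) := by
    have : (t + 1) ^ 2 - 1 = t * (t + 2) := by
      have : (t + 1) ^ 2 = t * (t + 2) + 1 := by ring
      omega
    rw [this]; ring
  rw [hd', hX, mul_comm (t + 3) t] at hdvd
  have h1 : (t + 3) ∣ ((t + 1) ^ 2 + (t + 1) + 1) * (t + 2) * (t + 1) ^ 2 :=
    Nat.dvd_of_mul_dvd_mul_left (by omega : 0 < t) hdvd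
  have h2 : ((t + 3 : ℕ) : ℤ) ∣ 12 := by
    have h3 : ((t + 3 : ℕ) : ℤ) ∣ ((((t + 1) ^ 2 + (t + 1) + 1) * (t + 2) * (t + 1) ^ 2 : ℕ) : ℤ) := by
      exact_mod_cast h1
    have h4 : ((t + 3 : ℕ) : ℤ) ∣ ((((t + 1) ^ 2 + (t + 1) + 1) * (t + 2) * (t + 1) ^ 2 : ℕ) : ℤ) + 12 := by
      refine ⟨((t : ℤ) + 1) ^ 4 + 2 * ((t : ℤ) + 1) ^ 2 - 3 * ((t : ℤ) + 1) + 6, ?_⟩
      push_cast
      ring
    exact (Int.dvd_add_right h3).mp h4
  have h3 : t + 3 ∣ 12 := by exact_mod_cast h2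
  have h4 : t + 3 ≤ 12 := Nat.le_of_dvd (by omega) h3
  have ht : t ≤ 9 := by omega
  interval_cases t
  all_goals first
    | omega
    | exact not_primePow_ten hpp

/-- the main arithmetic step, `n = k + 1 ≥ 3` -/
theorem main_arith (q k : ℕ) (hq2 : 2 ≤ q) (hpp : ∃ p j : ℕ, Nat.Prime p ∧ q = p ^ j) (hk : 2 ≤ k)
    (deg a e idx : ℕ) (S : Set ℕ)
    (hdeg : deg = a + e * (q ^ k - 1)) (he : 1 ≤ e) (hidx : idx * (q - 1) = q ^ (k + 1) - 1)
    (hdvd : deg ∣ idx * (q ^ k - 1) * (e * q ^ k))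
    (h3a : e = 1 → a ≠ 0)
    (hlevi : a ≠ 0 → idx ≤ deg + 1 ∨ a ∈ AddSubmonoid.closure S)
    (hS : ∀ d ∈ S, GoodDeg q k d)
    (hex : ¬ (k = 2 ∧ q = 2) ∧ ¬ (k = 2 ∧ q = 4) ∧ ¬ (k = 3 ∧ q = 2)) :
    Nq q (k + 1) ≤ deg := by
  have hr1 : 1 ≤ q ^ k := Nat.one_le_pow _ _ (by omega)
  have hN := Nq_eq' q k hq2
  have hMle := Mq_le q k hq2
  have hMspec := Mq_spec q k hq2
  have hidx' : idx = q ^ k + Mq q k := by rw [idx_eq q k idx hq2 hidx, Mq_succ q k hq2]
  by_cases he2 : 2 ≤ e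
  · have : 2 * (q ^ k - 1) ≤ e * (q ^ k - 1) := Nat.mul_le_mul_right _ he2
    omega
  have he1 : e = 1 := by omega
  subst he1
  have ha0 := h3a rfl
  rw [one_mul] at hdeg hdvd
  rcases hlevi ha0 with hW | hL
  · omega
  by_contra hcon
  have haM : a < Mq q k := by omega
  -- `M ≥ 2`
  obtain ⟨k', rfl⟩ : ∃ k', k = k' + 1 := ⟨k - 1, by omega⟩
  have hMs := Mq_succ q k' hq2
  have hM2 : 2 ≤ Mq q (k' + 1) := by
    have : 2 ≤ q ^ k' := by
      calc 2 ≤ q := hq2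
        _ = q ^ 1 := (pow_one q).symm
        _ ≤ q ^ k' := Nat.pow_le_pow_right (by omega) (by omega)
    omega
  -- the general exclusion when `a = M - 1`
  have hgen : a + 1 = Mq q (k' + 1) → False := by
    intro haM1
    refine excl_general q (Mq q (k' + 1)) (q ^ (k' + 1)) deg (k' + 1) hq2 hM2 hMspec.symm hr1 rfl ?_ ?_
    · have := sub_one_mul_add q (Mq q (k' + 1)) (by omega)
      omega
    · have : deg + 2 = idx := by omega
      rw [this]
      exact hdvd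
  -- lower bound `a ≥ N_{k}` gives `a = M - 1`
  have hfromN : (∀ d ∈ S, Nq q (k' + 1) ≤ d) → False := by
    intro hS'
    have h1 := closure_ge S _ hS' a hL ha0
    have h2 := Nq_add_one q k' hq2
    exact hgen (by omega)
  by_cases hk2 : k' + 1 = 2
  · -- `n = 3`
    have hk' : k' = 1 := by omega
    subst hk'
    have hq3 : 3 ≤ q := by
      by_contra h
      exact hex.1 ⟨rfl, by omega⟩
    have hq4 : q ≠ 4 := fun h => hex.2.1 ⟨rfl, h⟩
    have hS' : ∀ d ∈ S, q - 1 ≤ d := by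
      intro d hd
      have := hS d hd
      simpa [GoodDeg] using this
    have h1 := closure_ge S _ hS' a hL ha0
    have hM : Mq q (1 + 1) = q + 1 := Mq_two q hq2
    rw [hM] at haM hgen
    have : a = q - 1 ∨ a = q := by omega
    rcases this with h | h
    · refine excl_k2 q deg hq3 hq4 hpp (by rw [hdeg, h]) ?_
      rw [hidx', hM] at hdvd
      have : q ^ (1 + 1) + (q + 1) = q ^ 2 + q + 1 := by ring
      rw [this] at hdvd
      exact hdvd
    · exact hgen (by omega)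
  by_cases hk3 : k' + 1 = 3
  · have hk' : k' = 2 := by omega
    subst hk'
    have hq2' : q ≠ 2 := fun h => hex.2.2 ⟨rfl, h⟩
    by_cases hq4 : q = 4
    · subst hq4
      have hS' : ∀ d ∈ S, 18 ≤ d := by
        intro d hd
        have := hS d hd
        simpa [GoodDeg] using this
      have h1 := closure_ge S _ hS' a hL ha0
      have hM : Mq 4 (2 + 1) = 21 := by rw [Mq_three 4 (by norm_num)]; norm_num
      rw [hM] at haM
      rw [hidx', hM] at hdvd
      norm_num at hdvd hdeg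
      subst hdeg
      interval_cases a <;> omega
    · apply hfromN
      intro d hd
      have := hS d hd
      simpa [GoodDeg, hq2', hq4] using this
  by_cases hk4 : k' + 1 = 4
  · have hk' : k' = 3 := by omega
    subst hk'
    by_cases hq2' : q = 2
    · subst hq2'
      have hS' : ∀ d ∈ S, d = 7 ∨ d = 8 ∨ d = 10 ∨ d = 12 ∨ 14 ≤ d := by
        intro d hd
        have := hS d hd
        simpa [GoodDeg] using this
      have h1 := closure_42 S hS' a hL ha0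
      have hM : Mq 2 (3 + 1) = 15 := by
        rw [Mq_succ 2 3 (by norm_num), Mq_three 2 (by norm_num)]; norm_num
      rw [hM] at haM
      rw [hidx', hM] at hdvd
      norm_num at hdvd hdeg
      subst hdeg
      rcases h1 with rfl | rfl | rfl | rfl | h1
      · omega
      · omega
      · omega
      · omega
      · have : a = 14 := by omega
        subst this
        omega
    · apply hfromN
      intro d hd
      have := hS d hd
      simpa [GoodDeg, hq2'] using this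
  · apply hfromN
    intro d hd
    have := hS d hd
    have h5 : ¬ (k' + 1 = 2) := hk2
    simpa [GoodDeg, hk2, hk3, hk4] using this


theorem goodDeg_of_Nq (q n d : ℕ) (hn : 3 ≤ n) (h : Nq q n ≤ d) (h32 : ¬ (n = 3 ∧ q = 2))
    (h34 : ¬ (n = 3 ∧ q = 4)) (h42 : ¬ (n = 4 ∧ q = 2)) : GoodDeg q n d := by
  unfold GoodDeg
  have h2 : ¬ n = 2 := by omega
  rw [if_neg h2]
  by_cases h3 : n = 3
  · subst h3
    rw [if_pos rfl, if_neg (fun hq => h32 ⟨rfl, hq⟩), if_neg (fun hq => h34 ⟨rfl, hq⟩)]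
    exact h
  rw [if_neg h3]
  by_cases h4 : n = 4
  · subst h4
    rw [if_pos rfl, if_neg (fun hq => h42 ⟨rfl, hq⟩)]
    exact h
  rw [if_neg h4]
  exact h

end Cfsg.Agent.Helper80.LS
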