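/-
Helper80, S2332 package: the delivered pieces, collected under the skeleton names.
(A1, A7: helper89; A3b, MG: helper20; A4, A6: helper42; A5: helper29; MA, MB: helper41;
MD, ME: helper87; MH, MI: helper69; MC, MF: helper34.)
-/
import Mathlib
import Cfsg.Agent.Helper80.LS.Defs
import Cfsg.Agent.Helper89.LS_A1
import Cfsg.Agent.Helper89.LS_A7
import Cfsg.Agent.Helper20.LS_A3b
import Cfsg.Agent.Helper20.LS_MG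
import Cfsg.Agent.Helper42.LS_A4
import Cfsg.Agent.Helper42.LS_A6
import Cfsg.Agent.Helper29.LS_A5
import Cfsg.Agent.Helper34.LS_MC
import Cfsg.Agent.Helper34.LS_MF
import Cfsg.Agent.Helper69.LS_MI
import Cfsg.Agent.Helper41.LS_MA
import Cfsg.Agent.Helper41.LS_MB
import Cfsg.Agent.Helper87.LS_MD
import Cfsg.Agent.Helper87.LS_ME
import Cfsg.Agent.Helper69.LS_MH

set_option autoImplicit false
set_option linter.unusedSectionVars false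
set_option linter.unusedVariables false

namespace Cfsg.Agent.Helper80.LS

open Cfsg Matrix

universe u

section abstract
variable {G : Type u} [Group G] [Fintype G]

theorem A1_exists_a_e (Q : Subgroup G) [Fintype Q] (hQab : ∀ x ∈ Q, ∀ y ∈ Q, x * y = y * x)
    (hnt : ∃ x ∈ Q, x ≠ 1) {χ : G → ℂ} (hχ : IsCharacter G χ) (τ : ℂ)
    (hτ : ∀ x ∈ Q, x ≠ 1 → χ x = τ) :
    ∃ a e : ℕ, classInner (fun x : Q => χ x) (fun _ => 1) = a ∧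
      (∀ lam : Q →* ℂˣ, lam ≠ 1 →
        classInner (fun x : Q => χ x) (fun x => ((lam x : ℂˣ) : ℂ)) = e) ∧
      χ 1 = (a : ℂ) + e * ((Nat.card Q : ℂ) - 1) ∧ τ = (a : ℂ) - e :=
  Helper89.LS.A1_exists_a_e Q hQab hnt hχ τ hτ

theorem A3b_index_centralizer (Q P : Subgroup G) (t0 : G) (ht0 : t0 ∈ Q) (ht01 : t0 ≠ 1)
    (hQP : ∀ p ∈ P, ∀ x ∈ Q, p * x * p⁻¹ ∈ Q)
    (htrans : ∀ x ∈ Q, x ≠ 1 → ∃ p ∈ P, p * t0 * p⁻¹ = x)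
    (hTI : ∀ g : G, g * t0 * g⁻¹ ∈ Q → g ∈ P) :
    (Subgroup.centralizer ({t0} : Set G)).index = P.index * (Nat.card Q - 1) :=
  Helper20.LS.A3b_index_centralizer Q P t0 ht0 ht01 hQP htrans hTI

theorem A4_fixed_mult (N : Subgroup G) [N.Normal] [Fintype N] [Fintype (IrrCharacter G)]
    {ψ : G → ℂ} (hψ : IsCharacter G ψ) :
    classInner (fun x : N => ψ x) (fun _ => 1) =
      ∑ θ : IrrCharacter G, (mult ψ hψ θ : ℂ) *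
        (open Classical in if (∀ x ∈ N, (θ : G → ℂ) x = (θ : G → ℂ) 1) then (θ : G → ℂ) 1 else 0) :=
  Helper42.LS.A4_fixed_mult N hψ

theorem A5_restrict_irr (N C L : Subgroup G)
    (hCL : ∀ c ∈ C, ∀ l ∈ L, c * l = l * c) (hCC : ∀ c ∈ C, ∀ d ∈ C, c * d = d * c)
    (hfac : ∀ p : G, ∃ x ∈ N, ∃ c ∈ C, ∃ l ∈ L, p = x * c * l)
    {θ : G → ℂ} (hθ : IsIrrCharacter G θ) (hθN : ∀ x ∈ N, θ x = θ 1) :
    IsIrrCharacter L (fun l : L => θ l) :=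
  Helper29.LS.A5_restrict_irr N C L hCL hCC hfac hθ hθN

theorem A6_weil (Q P : Subgroup G) [Fintype P] (t0 : G) (ht0 : t0 ∈ Q) (ht01 : t0 ≠ 1)
    (hQP : Q ≤ P) (hQab : ∀ x ∈ Q, ∀ y ∈ Q, x * y = y * x)
    (htrans : ∀ x ∈ Q, x ≠ 1 → ∃ p ∈ P, p * t0 * p⁻¹ = x)
    (hcomm : commutator G ≤ Subgroup.normalClosure ({t0} : Set G))
    (hPS : ∀ g : G, ∃ p ∈ P, ∃ s ∈ Subgroup.normalClosure ({t0} : Set G), g = p * s)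
    (M : ℕ) (hidx : P.index = Nat.card Q + M)
    (hfix : Nat.card {y : G // y⁻¹ * t0 * y ∈ P} = Nat.card P * M)
    {θ : P → ℂ} (hθ : IsIrrCharacter P θ) (hθ1 : θ 1 = 1)
    (hθQ : ∀ x : P, (x : G) ∈ Q → θ x = 1)
    (hθt : ∀ x : P, (∃ y : G, y⁻¹ * t0 * y = x) → θ x = 1)
    {χ : G → ℂ} (hχ : IsIrrCharacter G χ) (hχ1 : charDegree χ ≠ 1)
    (hne : classInner (fun x : P => χ x) θ ≠ 0) :
    P.index ≤ charDegree χ + 1 :=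
  Helper42.LS.A6_weil Q P t0 ht0 ht01 hQP hQab htrans hcomm hPS M hidx hfix hθ hθ1 hθQ hθt hχ hχ1 hne

theorem A7_heisenberg (Q Qs Z Q0 : Subgroup G) [Fintype Q] [Fintype Qs]
    (hQab : ∀ x ∈ Q, ∀ y ∈ Q, x * y = y * x)
    (hZQ : Z ≤ Q) (hZQs : Z ≤ Qs) (hcomm : ∀ x ∈ Q, ∀ y ∈ Qs, x * y * x⁻¹ * y⁻¹ ∈ Z)
    (hZQ0 : Z ≤ Q0) (hQ0Q : Q0 ≤ Q) (hQ0ne : ∃ x ∈ Q, x ∉ Q0)
    (S : Set G) (hSQ : ∀ g ∈ S, ∀ x ∈ Q, g * x * g⁻¹ ∈ Q)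
    (hSQs : ∀ g ∈ S, ∀ y ∈ Qs, g * y * g⁻¹ ∈ Qs)
    (hSQ0 : ∀ g ∈ S, ∀ x ∈ Q, g * x * g⁻¹ * x⁻¹ ∈ Q0)
    (hgen : Qs ≤ Subgroup.closure ((Z : Set G) ∪
      {w | ∃ g ∈ S, ∃ y ∈ Qs, w = g * y * g⁻¹ * y⁻¹}))
    {χ : G → ℂ} (hχ : IsCharacter G χ)
    (hQ1 : ∀ lam : Q →* ℂˣ, lam ≠ 1 →
      classInner (fun x : Q => χ x) (fun x => ((lam x : ℂˣ) : ℂ)) = 1)
    (hQs0 : classInner (fun y : Qs => χ y) (fun _ => 1) = 0) : False :=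
  Helper89.LS.A7_heisenberg Q Qs Z Q0 hQab hZQ hZQs hcomm hZQ0 hQ0Q hQ0ne S hSQ hSQs hSQ0 hgen hχ hQ1 hQs0

end abstract

section matrix
variable {F : Type*} [Field F] [Fintype F] [DecidableEq F] {m : ℕ} {G : Type*} [Group G] [Fintype G]
  (D : MatGrp F (m + 2) G)

theorem MatGrp.Q_le_P : D.Q ≤ D.P := Helper41.LS.Q_le_P D
theorem MatGrp.conj_mem_Q : ∀ p ∈ D.P, ∀ x ∈ D.Q, p * x * p⁻¹ ∈ D.Q := Helper41.LS.conj_mem_Q D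
theorem MatGrp.Q_comm : ∀ x ∈ D.Q, ∀ y ∈ D.Q, x * y = y * x := Helper41.LS.Q_comm D
theorem MatGrp.Qs_comm : ∀ x ∈ D.Qs, ∀ y ∈ D.Qs, x * y = y * x := Helper41.LS.Qs_comm D
theorem MatGrp.card_Q : Nat.card D.Q = Fintype.card F ^ (m + 1) := Helper41.LS.card_Q D
theorem MatGrp.card_Qs : Nat.card D.Qs = Fintype.card F ^ (m + 1) := Helper41.LS.card_Qs D
theorem MatGrp.t0_mem_Q : D.t0 ∈ D.Q := Helper41.LS.t0_mem_Q D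
theorem MatGrp.t0_ne_one : D.t0 ≠ 1 := Helper41.LS.t0_ne_one D
theorem MatGrp.t0_not_mem_Q0 : D.t0 ∉ D.Q0 := Helper41.LS.t0_not_mem_Q0 D
theorem MatGrp.Q0_le_Q : D.Q0 ≤ D.Q := Helper41.LS.Q0_le_Q D
theorem MatGrp.Z_le_Q : D.Z ≤ D.Q := Helper41.LS.Z_le_Q D
theorem MatGrp.Z_le_Qs : D.Z ≤ D.Qs := Helper41.LS.Z_le_Qs D
theorem MatGrp.Z_le_Q0 (hm : 1 ≤ m) : D.Z ≤ D.Q0 := Helper41.LS.Z_le_Q0 D hm
theorem MatGrp.comm_Q_Qs : ∀ x ∈ D.Q, ∀ y ∈ D.Qs, x * y * x⁻¹ * y⁻¹ ∈ D.Z := Helper41.LS.comm_Q_Qs D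

-- `MatGrp.exists_conj_tv`, `MatGrp.index_P`, `MatGrp.card_fix` are declared (under these names, in this
-- namespace) in `Helper34.LS_MC` / `Helper34.LS_MF`.

theorem MatGrp.mem_P_of_conj_mem_Q : ∀ g : G, g * D.t0 * g⁻¹ ∈ D.Q → g ∈ D.P :=
  Helper87.LS.mem_P_of_conj_mem_Q D

theorem MatGrp.mem_normalClosure_of_det (h : 1 ≤ m ∨ D.Full) :
    ∀ g : G, (D.φ g).det = 1 → g ∈ Subgroup.normalClosure ({D.t0} : Set G) :=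
  Helper87.LS.mem_normalClosure_of_det D (fun u ψ hu hψ h0 => D.exists_conj_tv h u ψ hu hψ h0)

theorem MatGrp.exists_P_mul_det_one :
    ∀ g : G, ∃ p ∈ D.P, ∃ s : G, (D.φ s).det = 1 ∧ g = p * s :=
  Helper87.LS.exists_P_mul_det_one D

theorem MatGrp.t0_mem_commutator (hfull : D.Full) (h : ¬ (m = 0 ∧ Fintype.card F = 2)) :
    D.t0 ∈ commutator G := Helper87.LS.t0_mem_commutator D hfull h

theorem MatGrp.C_le_P : D.C ≤ D.P := Helper20.LS.C_le_P D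
theorem MatGrp.L0_le_P : D.L0 ≤ D.P := Helper20.LS.L0_le_P D
theorem MatGrp.C_comm : ∀ c ∈ D.C, ∀ d ∈ D.C, c * d = d * c := Helper20.LS.C_comm D
theorem MatGrp.C_comm_L0 : ∀ c ∈ D.C, ∀ l ∈ D.L0, c * l = l * c := Helper20.LS.C_comm_L0 D
theorem MatGrp.P_factor : ∀ p ∈ D.P, ∃ x ∈ D.Q, ∃ c ∈ D.C, ∃ l ∈ D.L0, p = x * c * l :=
  Helper20.LS.P_factor D

theorem MatGrp.P_factor_tv (x : G) (hx : x ∈ D.P) (hc : ∃ y : G, y⁻¹ * D.t0 * y = x) :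
    ∃ z ∈ D.Q, ∃ h : GL (Fin (m + 1)) F, x = z * D.iota h ∧
      ∃ u ψ : Fin (m + 1) → F, ψ ⬝ᵥ u = 0 ∧
        (h : Matrix (Fin (m + 1)) (Fin (m + 1)) F) = 1 + vecMulVec u ψ :=
  Helper20.LS.P_factor_tv D x hx hc

theorem MatGrp.lin_char_trivial (hm : 1 ≤ m) (hq : ¬ (m = 1 ∧ Fintype.card F = 2))
    (θ : D.P →* ℂˣ) (hθ : ∀ x : D.P, (x : G) ∈ D.Q → θ x = 1) :
    ∀ x : D.P, (∃ y : G, y⁻¹ * D.t0 * y = (x : G)) → θ x = 1 :=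
  Helper69.LS.lin_char_trivial D hm hq D.L0_le_P (fun x hx hc => D.P_factor_tv x hx hc)
    (fun k u ψ hu hψ h0 =>
      (glMatGrp F (k + 2)).exists_conj_tv (Or.inr (glMatGrp_full F (k + 2))) u ψ hu hψ h0)
    (fun k hk => (glMatGrp F (k + 2)).t0_mem_commutator (glMatGrp_full F (k + 2)) hk) θ hθ

theorem MatGrp.has3a (hm : 1 ≤ m)
    (h : 3 ≤ m ∨ ∃ g : G, ∃ d : Fin (m + 2) → F, D.φ g = Matrix.diagonal d ∧ d 0 = d 1 ∧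
      d (Fin.last m).castSucc ≠ d (Fin.last (m + 1))) : D.Has3a :=
  Helper69.LS.has3a D hm h

end matrix

end Cfsg.Agent.Helper80.LS
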