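/-
Helper80, S2332 package: the generic step (assembly of the abstract and the matrix pieces).
-/
import Mathlib
import Cfsg.Agent.Helper80.LS.Pieces
import Cfsg.Agent.Helper80.LS.AbsMine

set_option autoImplicit false
set_option linter.unusedSectionVars false
set_option linter.unusedVariables false
set_option linter.style.haveILetI false

namespace Cfsg.Agent.Helper80.LS

open Cfsg Matrix

universe u v

/-- degrees of the non-linear irreducible characters of `L` -/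
def LevelDegs (L : Type v) [Group L] : Set ℕ :=
  {d | ∃ ψ : L → ℂ, IsIrrCharacter L ψ ∧ charDegree ψ ≠ 1 ∧ charDegree ψ = d}

section general
variable {G : Type u} [Group G] [Fintype G]

theorem classInner_subgroupOf (H K : Subgroup G) (hHK : H ≤ K) [Fintype H] [Fintype (H.subgroupOf K)]
    (f g : G → ℂ) :
    classInner (fun x : H.subgroupOf K => f ((x : K) : G)) (fun x => g ((x : K) : G)) =
      classInner (fun x : H => f x) (fun x => g x) := by
  unfold classInner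
  congr 1
  · rw [Nat.card_congr (Subgroup.subgroupOfEquivOfLe hHK).toEquiv]
  · exact Fintype.sum_equiv (Subgroup.subgroupOfEquivOfLe hHK).toEquiv _ _ (fun x => rfl)

theorem det_commutator {n : ℕ} {F : Type*} [Field F] (φ : G →* Matrix (Fin n) (Fin n) F) (g : G)
    (hg : g ∈ commutator G) : (φ g).det = 1 := by
  let f : G →* Fˣ := (Matrix.detMonoidHom.comp φ).toHomUnits
  have h1 : g ∈ f.ker := Abelianization.commutator_subset_ker f hg
  have h2 : f g = 1 := h1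
  have h3 := congrArg Units.val h2
  simpa [f] using h3

end general

variable {F : Type v} [Field F] [Fintype F] [DecidableEq F] {m : ℕ} {G : Type u} [Group G] [Fintype G]
  (D : MatGrp F (m + 2) G)

theorem MatGrp.exists_conj_of_mem_Q (h : 1 ≤ m ∨ D.Full) :
    ∀ x ∈ D.Q, x ≠ 1 → ∃ p ∈ D.P, p * D.t0 * p⁻¹ = x := by
  intro x hx hx1
  obtain ⟨r, hr0, hxr⟩ := hx
  have hr : r ≠ 0 := by
    rintro rfl
    apply hx1
    apply D.eq_one_of_φ
    rw [hxr, vecMulVec_zero, add_zero]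
  have h0 : r ⬝ᵥ e0 F m = 0 := by rw [dot_e0]; exact hr0
  obtain ⟨g, hg⟩ := D.exists_conj_tv h (e0 F m) r e0_ne_zero hr h0
  have hxt : x = D.tv (e0 F m) r h0 := D.inj (by rw [hxr, D.φ_tv])
  refine ⟨g, D.mem_P_of_conj_mem_Q g ?_, by rw [hg, hxt]⟩
  rw [hg]
  exact ⟨r, hr0, D.φ_tv _ _ _⟩

theorem MatGrp.exists_conj_of_mem_Qs (h : 1 ≤ m ∨ D.Full) :
    ∀ y ∈ D.Qs, y ≠ 1 → ∃ g : G, g * D.t0 * g⁻¹ = y := by
  intro y hy hy1
  obtain ⟨c, hc0, hyc⟩ := hy
  have hc : c ≠ 0 := by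
    rintro rfl
    apply hy1
    apply D.eq_one_of_φ
    rw [hyc, zero_vecMulVec, add_zero]
  have h0 : eL F m ⬝ᵥ c = 0 := by rw [eL_dot]; exact hc0
  obtain ⟨g, hg⟩ := D.exists_conj_tv h c (eL F m) hc eL_ne_zero h0
  exact ⟨g, by rw [hg]; exact D.inj (by rw [hyc, D.φ_tv])⟩

theorem MatGrp.commutator_le_normalClosure (h : 1 ≤ m ∨ D.Full) :
    commutator G ≤ Subgroup.normalClosure ({D.t0} : Set G) := fun g hg =>
  D.mem_normalClosure_of_det h g (det_commutator D.φ g hg)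

theorem card_F_ge_two : 2 ≤ Fintype.card F := Fintype.one_lt_card

/-- `r - 1 = (q - 1) M` -/
theorem exists_M (q k : ℕ) (hq : 2 ≤ q) : ∃ M : ℕ, q ^ k - 1 = (q - 1) * M := by
  exact Nat.sub_one_dvd_pow_sub_one q k


/-- the first half of the step: `(a,e)` decomposition, `e ≥ 1`, integrality, Heisenberg lemma -/
theorem MatGrp.step_ae (hD : 1 ≤ m ∨ D.Full) {χ : G → ℂ} (hχ : IsIrrCharacter G χ)
    (hχ1 : charDegree χ ≠ 1) [Fintype D.Q] :
    ∃ a e : ℕ, classInner (fun x : D.Q => χ x) (fun _ => 1) = a ∧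
      charDegree χ = a + e * (Fintype.card F ^ (m + 1) - 1) ∧ 1 ≤ e ∧
      charDegree χ ∣ D.P.index * (Fintype.card F ^ (m + 1) - 1) * (e * Fintype.card F ^ (m + 1)) ∧
      (1 ≤ m → D.Has3a → e = 1 → a ≠ 0) := by
  classical
  letI : Fintype D.Qs := Fintype.ofFinite _
  have hc := IsIrrCharacter.isCharacter hχ
  have hcf := IsCharacter.isClassFunction hc
  have hq2 : 2 ≤ Fintype.card F := card_F_ge_two
  set q := Fintype.card F with hq
  have hr1 : 1 ≤ q ^ (m + 1) := Nat.one_le_pow _ _ (by omega)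
  have hr2 : 2 ≤ q ^ (m + 1) := by
    calc 2 ≤ q := hq2
      _ = q ^ 1 := (pow_one q).symm
      _ ≤ q ^ (m + 1) := Nat.pow_le_pow_right (by omega) (by omega)
  have hτQ : ∀ x ∈ D.Q, x ≠ 1 → χ x = χ D.t0 := by
    intro x hx hx1
    obtain ⟨p, -, hp⟩ := D.exists_conj_of_mem_Q hD x hx hx1
    rw [← hp, hcf]
  have hτQs : ∀ y ∈ D.Qs, y ≠ 1 → χ y = χ D.t0 := by
    intro y hy hy1
    obtain ⟨g, hg⟩ := D.exists_conj_of_mem_Qs hD y hy hy1
    rw [← hg, hcf]
  obtain ⟨a, e, ha, he, h1, hτ⟩ :=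
    A1_exists_a_e D.Q D.Q_comm ⟨D.t0, D.t0_mem_Q, D.t0_ne_one⟩ hc (χ D.t0) hτQ
  rw [D.card_Q] at h1
  have hdc := IsCharacter.charDegree_cast hc
  have hrc : ((q ^ (m + 1) : ℕ) : ℂ) - 1 = ((q ^ (m + 1) - 1 : ℕ) : ℂ) := by
    rw [Nat.cast_sub hr1, Nat.cast_one]
  have hdeg : charDegree χ = a + e * (q ^ (m + 1) - 1) := by
    have : (charDegree χ : ℂ) = ((a + e * (q ^ (m + 1) - 1) : ℕ) : ℂ) := by
      rw [hdc, h1, hrc]; push_cast; ring
    exact_mod_cast this
  have he1 : 1 ≤ e := by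
    by_contra hcon
    have he0 : e = 0 := by omega
    apply hχ1
    apply A2_linear_of_ker hχ D.t0 (D.commutator_le_normalClosure hD)
    rw [hτ, h1, he0]
    simp
  refine ⟨a, e, ha, hdeg, he1, ?_, ?_⟩
  · have h3 := A3_degree_dvd hχ D.t0 a e (q ^ (m + 1)) h1 hτ
    have h3b := A3b_index_centralizer D.Q D.P D.t0 D.t0_mem_Q D.t0_ne_one D.conj_mem_Q
      (D.exists_conj_of_mem_Q hD) D.mem_P_of_conj_mem_Q
    rw [h3b, D.card_Q] at h3
    exact h3
  · intro hm h3a he1' ha0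
    subst he1'
    subst ha0
    -- the same data on `Qs`
    have hQs_nt : ∃ y ∈ D.Qs, y ≠ 1 := by
      have hcard : 1 < Nat.card D.Qs := by
        rw [D.card_Qs]
        show 1 < q ^ (m + 1)
        omega
      have : Nontrivial D.Qs := Finite.one_lt_card_iff_nontrivial.mp hcard
      obtain ⟨y, hy⟩ := exists_ne (1 : D.Qs)
      exact ⟨y, y.2, fun h => hy (Subtype.ext h)⟩
    obtain ⟨a', e', ha', he', h1', hτ'⟩ :=
      A1_exists_a_e D.Qs D.Qs_comm hQs_nt hc (χ D.t0) hτQs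
    rw [D.card_Qs] at h1'
    have hr0 : ((q ^ (m + 1) : ℕ) : ℂ) ≠ 0 := by
      have : (0 : ℕ) < q ^ (m + 1) := by omega
      exact_mod_cast this.ne'
    have hee : (e' : ℂ) = 1 := by
      have h5 : (e' : ℂ) * ((q ^ (m + 1) : ℕ) : ℂ) = 1 * ((q ^ (m + 1) : ℕ) : ℂ) := by
        have h6 : χ 1 - χ D.t0 = (e' : ℂ) * ((q ^ (m + 1) : ℕ) : ℂ) := by rw [h1', hτ']; ring
        have h7 : χ 1 - χ D.t0 = 1 * ((q ^ (m + 1) : ℕ) : ℂ) := by rw [h1, hτ]; push_cast; ring
        rw [← h6, h7]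
      exact mul_right_cancel₀ hr0 h5
    have haa : (a' : ℂ) = 0 := by
      have h8 : (a' : ℂ) - e' = ((0 : ℕ) : ℂ) - ((1 : ℕ) : ℂ) := by rw [← hτ', hτ]
      rw [hee] at h8
      have : (a' : ℂ) = 0 := by
        have h9 := h8
        push_cast at h9
        linear_combination h9
      exact this
    rw [haa] at ha'
    refine A7_heisenberg D.Q D.Qs D.Z D.Q0 D.Q_comm D.Z_le_Q D.Z_le_Qs D.comm_Q_Qs (D.Z_le_Q0 hm)
      D.Q0_le_Q ⟨D.t0, D.t0_mem_Q, D.t0_not_mem_Q0⟩ D.S3a (fun g hg => hg.1) (fun g hg => hg.2.1)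
      (fun g hg => hg.2.2) h3a hc ?_ ha'
    intro lam hlam
    rw [he lam hlam]
    simp


theorem idx_arith (q r M idx : ℕ) (hq : 2 ≤ q) (hr : 1 ≤ r) (hM : r - 1 = (q - 1) * M)
    (h : idx * (q - 1) = q * r - 1) : idx = r + M := by
  obtain ⟨q', rfl⟩ : ∃ q', q = q' + 2 := ⟨q - 2, by omega⟩
  have hr' : r = (q' + 1) * M + 1 := by
    have : q' + 2 - 1 = q' + 1 := by omega
    rw [this] at hM
    omega
  have h1 : q' + 2 - 1 = q' + 1 := by omega
  rw [h1] at h
  have h2 : (q' + 2) * r - 1 = (r + M) * (q' + 1) := by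
    have h3 : (q' + 2) * r = (r + M) * (q' + 1) + 1 := by
      rw [hr']; ring
    omega
  rw [h2] at h
  exact Nat.eq_of_mul_eq_mul_right (by omega) h

/-- the second half of the step: `a ≠ 0`: Weil case or Levi case -/
theorem MatGrp.step_levi (hm : 1 ≤ m) (hq : ¬ (m = 1 ∧ Fintype.card F = 2))
    {χ : G → ℂ} (hχ : IsIrrCharacter G χ) (hχ1 : charDegree χ ≠ 1) [Fintype D.Q] (a : ℕ)
    (ha : classInner (fun x : D.Q => χ x) (fun _ => 1) = a) (ha0 : a ≠ 0) :
    D.P.index ≤ charDegree χ + 1 ∨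
      a ∈ AddSubmonoid.closure (LevelDegs (GL (Fin (m + 1)) F)) := by
  classical
  letI : Fintype D.P := Fintype.ofFinite _
  letI : Fintype (IrrCharacter D.P) := Helper74.irrFintype D.P
  have hD : 1 ≤ m ∨ D.Full := Or.inl hm
  have hc := IsIrrCharacter.isCharacter hχ
  have hq2 : 2 ≤ Fintype.card F := card_F_ge_two
  have hψ : IsCharacter D.P (fun x : D.P => χ x) := Helper74.isCharacter_restrict D.P hc
  let N : Subgroup D.P := D.Q.subgroupOf D.P
  haveI hN : N.Normal := ⟨fun n hn p => by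
    rw [Subgroup.mem_subgroupOf] at hn ⊢
    exact D.conj_mem_Q p p.2 n hn⟩
  letI : Fintype N := Fintype.ofFinite _
  have h4 := A4_fixed_mult N hψ
  have hL : classInner (fun x : N => (fun x : D.P => χ x) x) (fun _ => 1) = a := by
    rw [← ha]
    exact classInner_subgroupOf D.Q D.P D.Q_le_P χ (fun _ => 1)
  by_cases hW : ∃ θ : IrrCharacter D.P, mult (fun x : D.P => χ x) hψ θ ≠ 0 ∧
      (∀ x ∈ N, (θ : D.P → ℂ) x = (θ : D.P → ℂ) 1) ∧ (θ : D.P → ℂ) 1 = 1
  · left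
    obtain ⟨θ, hm0, hcond, hθ1⟩ := hW
    obtain ⟨M, hM⟩ := exists_M (Fintype.card F) (m + 1) hq2
    have hr1 : 1 ≤ Fintype.card F ^ (m + 1) := Nat.one_le_pow _ _ (by omega)
    have hidx : D.P.index = Nat.card D.Q + M := by
      rw [D.card_Q]
      refine idx_arith (Fintype.card F) _ M _ hq2 hr1 hM ?_
      rw [D.index_P, pow_succ (Fintype.card F) (m + 1), mul_comm]
    have hfix : Nat.card {y : G // y⁻¹ * D.t0 * y ∈ D.P} = Nat.card D.P * M := by
      have h1 := D.card_fix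
      rw [hM, ← mul_assoc, mul_comm (Nat.card D.P) (Fintype.card F - 1), mul_assoc,
        mul_comm _ (Fintype.card F - 1)] at h1
      exact Nat.eq_of_mul_eq_mul_left (by omega) h1
    have hθQ : ∀ x : D.P, (x : G) ∈ D.Q → (θ : D.P → ℂ) x = 1 := fun x hx => by
      rw [hcond x (Subgroup.mem_subgroupOf.mpr hx), hθ1]
    obtain ⟨φθ, hφθ⟩ := IsCharacter.exists_monoidHom (IsIrrCharacter.isCharacter θ.2) hθ1
    have hθt : ∀ x : D.P, (∃ y : G, y⁻¹ * D.t0 * y = x) → (θ : D.P → ℂ) x = 1 := by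
      intro x hx
      have := D.lin_char_trivial hm hq φθ (fun x hx => Units.ext (by rw [← hφθ]; exact hθQ x hx)) x hx
      rw [hφθ, this, Units.val_one]
    have hPS : ∀ g : G, ∃ p ∈ D.P, ∃ s ∈ Subgroup.normalClosure ({D.t0} : Set G), g = p * s := by
      intro g
      obtain ⟨p, hp, s, hs, hg⟩ := D.exists_P_mul_det_one g
      exact ⟨p, hp, s, D.mem_normalClosure_of_det hD s hs, hg⟩
    refine A6_weil D.Q D.P D.t0 D.t0_mem_Q D.t0_ne_one D.Q_le_P D.Q_comm (D.exists_conj_of_mem_Q hD)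
      (D.commutator_le_normalClosure hD) hPS M hidx hfix θ.2 hθ1 hθQ hθt hχ hχ1 ?_
    rw [mult_spec (fun x : D.P => χ x) hψ θ]
    exact_mod_cast hm0
  · right
    have hsum : (a : ℂ) = ∑ θ : IrrCharacter D.P, (mult (fun x : D.P => χ x) hψ θ : ℂ) *
        (if (∀ x ∈ N, (θ : D.P → ℂ) x = (θ : D.P → ℂ) 1) then (θ : D.P → ℂ) 1 else 0) := by
      rw [← hL, h4]
    have hsumN : a = ∑ θ : IrrCharacter D.P, mult (fun x : D.P => χ x) hψ θ *
        (if (∀ x ∈ N, (θ : D.P → ℂ) x = (θ : D.P → ℂ) 1) then charDegree (θ : D.P → ℂ) else 0) := by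
      have : (a : ℂ) = ((∑ θ : IrrCharacter D.P, mult (fun x : D.P => χ x) hψ θ *
        (if (∀ x ∈ N, (θ : D.P → ℂ) x = (θ : D.P → ℂ) 1) then charDegree (θ : D.P → ℂ) else 0) : ℕ) : ℂ) := by
        rw [hsum]
        push_cast
        refine Finset.sum_congr rfl fun θ _ => ?_
        split_ifs
        · rw [IsCharacter.charDegree_cast (IsIrrCharacter.isCharacter θ.2)]
        · simp
      exact_mod_cast this
    rw [hsumN]
    refine AddSubmonoid.sum_mem _ fun θ _ => ?_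
    by_cases hcond : ∀ x ∈ N, (θ : D.P → ℂ) x = (θ : D.P → ℂ) 1
    · rw [if_pos hcond]
      by_cases hm0 : mult (fun x : D.P => χ x) hψ θ = 0
      · rw [hm0, zero_mul]; exact zero_mem _
      rw [← smul_eq_mul]
      refine AddSubmonoid.nsmul_mem _ (AddSubmonoid.subset_closure ?_) _
      have hθ1 : (θ : D.P → ℂ) 1 ≠ 1 := fun h => hW ⟨θ, hm0, hcond, h⟩
      have hfac : ∀ p : D.P, ∃ x ∈ N, ∃ c ∈ D.C.subgroupOf D.P, ∃ l ∈ D.L0.subgroupOf D.P,
          p = x * c * l := by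
        intro p
        obtain ⟨x, hx, c, hc', l, hl, hp⟩ := D.P_factor p p.2
        refine ⟨⟨x, D.Q_le_P hx⟩, Subgroup.mem_subgroupOf.mpr hx, ⟨c, D.C_le_P hc'⟩,
          Subgroup.mem_subgroupOf.mpr hc', ⟨l, D.L0_le_P hl⟩, Subgroup.mem_subgroupOf.mpr hl, ?_⟩
        exact Subtype.ext hp
      have h5 := A5_restrict_irr (G := D.P) N (D.C.subgroupOf D.P) (D.L0.subgroupOf D.P)
        (fun c hc' l hl => Subtype.ext (D.C_comm_L0 c (Subgroup.mem_subgroupOf.mp hc') l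
          (Subgroup.mem_subgroupOf.mp hl)))
        (fun c hc' d hd => Subtype.ext (D.C_comm c (Subgroup.mem_subgroupOf.mp hc') d
          (Subgroup.mem_subgroupOf.mp hd))) hfac θ.2 hcond
      let eq : GL (Fin (m + 1)) F ≃* (D.L0.subgroupOf D.P) :=
        D.L0Equiv.trans (Subgroup.subgroupOfEquivOfLe D.L0_le_P).symm
      have h6 := IsIrrCharacter.comp_surjective h5 eq.toMonoidHom eq.surjective
      have hdeg : charDegree (fun h : GL (Fin (m + 1)) F =>
          (fun l : (D.L0.subgroupOf D.P) => (θ : D.P → ℂ) l) (eq.toMonoidHom h)) =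
          charDegree (θ : D.P → ℂ) := by
        unfold charDegree
        simp
      refine ⟨_, h6, ?_, hdeg⟩
      rw [hdeg]
      intro h1
      apply hθ1
      rw [← IsCharacter.charDegree_cast (IsIrrCharacter.isCharacter θ.2), h1, Nat.cast_one]
    · rw [if_neg hcond, mul_zero]; exact zero_mem _

end Cfsg.Agent.Helper80.LS
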