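/-
Helper80, S2332 package: the induction over the levels `GL_n(q)` and the top level `SL_n(q)`.
-/
import Mathlib
import Cfsg.Agent.Helper80.LS.Step
import Cfsg.Agent.Helper80.LS.Arith

set_option autoImplicit false
set_option linter.unusedSectionVars false
set_option linter.unusedVariables false
set_option linter.style.haveILetI false

namespace Cfsg.Agent.Helper80.LS

open Cfsg Matrix

universe u v

variable {F : Type v} [Field F] [Fintype F] [DecidableEq F]

theorem card_primePow : ∃ p j : ℕ, Nat.Prime p ∧ Fintype.card F = p ^ j := by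
  obtain ⟨p, -, n, hp, h⟩ := FiniteField.card' F
  exact ⟨p, n, hp, h⟩

theorem exists_ne_zero_ne_one (hq : 3 ≤ Fintype.card F) : ∃ s : F, s ≠ 0 ∧ s ≠ 1 := by
  obtain ⟨a, b, c, hab, hac, hbc⟩ := Fintype.two_lt_card_iff.mp (by omega : 2 < Fintype.card F)
  by_contra h
  push Not at h
  have key : ∀ s : F, s = 0 ∨ s = 1 := fun s => by
    by_cases h0 : s = 0
    · exact Or.inl h0
    · exact Or.inr (h s h0)
  rcases key a with ha | ha <;> rcases key b with hb | hb <;> rcases key c with hc | hc <;> simp_all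

/-- the torus element for `G = GL_n(q)`, `q ≥ 3` -/
theorem exists_torus_full {m : ℕ} {G : Type u} [Group G] (D : MatGrp F (m + 2) G) (hfull : D.Full)
    (hm : 1 ≤ m) (hq : 3 ≤ Fintype.card F) :
    ∃ g : G, ∃ d : Fin (m + 2) → F, D.φ g = Matrix.diagonal d ∧ d 0 = d 1 ∧
      d (Fin.last m).castSucc ≠ d (Fin.last (m + 1)) := by
  obtain ⟨s, hs0, hs1⟩ := exists_ne_zero_ne_one (F := F) hq
  let d : Fin (m + 2) → F := fun i => if i = Fin.last (m + 1) then s else 1
  have hdet : (Matrix.diagonal d).det ≠ 0 := by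
    rw [Matrix.det_diagonal, Finset.prod_ne_zero_iff]
    intro i _
    simp only [d]
    split_ifs
    · exact hs0
    · exact one_ne_zero
  obtain ⟨g, hg⟩ := hfull _ hdet
  refine ⟨g, d, hg, ?_, ?_⟩
  · have h0 : (0 : Fin (m + 2)) ≠ Fin.last (m + 1) := fin_zero_ne_last
    have h1 : (1 : Fin (m + 2)) ≠ Fin.last (m + 1) := by
      intro h
      have := congrArg Fin.val h
      rw [Fin.val_last, Fin.val_one] at this
      omega
    simp only [d, if_neg h0, if_neg h1]
  · have h2 : (Fin.last m).castSucc ≠ Fin.last (m + 1) := by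
      intro h
      have := congrArg Fin.val h
      simp at this
    simp only [d, if_neg h2, if_pos rfl]
    exact fun h => hs1 h.symm

/-- an element of `Fˣ` with `s^j ≠ 1` when `q - 1 ∤ j` -/
theorem exists_pow_ne_one (j : ℕ) (hj : ¬ (Fintype.card F - 1) ∣ j) : ∃ s : Fˣ, s ^ j ≠ 1 := by
  obtain ⟨g, hg⟩ := IsCyclic.exists_generator (α := Fˣ)
  refine ⟨g, fun h => hj ?_⟩
  have h1 : orderOf g = Nat.card Fˣ := orderOf_eq_card_of_forall_mem_zpowers hg
  rw [Nat.card_eq_fintype_card, Fintype.card_units] at h1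
  rw [← h1]
  exact orderOf_dvd_of_pow_eq_one h

/-- the torus element for `n = 3`, `q - 1 ∤ 3` -/
theorem exists_torus_three {G : Type u} [Group G] (D : MatGrp F (1 + 2) G)
    (hq : ¬ (Fintype.card F - 1) ∣ 3) :
    ∃ g : G, ∃ d : Fin (1 + 2) → F, D.φ g = Matrix.diagonal d ∧ d 0 = d 1 ∧
      d (Fin.last 1).castSucc ≠ d (Fin.last (1 + 1)) := by
  obtain ⟨s, hs⟩ := exists_pow_ne_one (F := F) 3 hq
  let d : Fin (1 + 2) → F := fun i => if i = Fin.last (1 + 1) then ((s ^ 2)⁻¹ : Fˣ) else (s : F)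
  have hdet : (Matrix.diagonal d).det = 1 := by
    rw [Matrix.det_diagonal]
    show ∏ i : Fin 3, d i = 1
    rw [Fin.prod_univ_three]
    have h0 : d 0 = s := rfl
    have h1 : d 1 = s := rfl
    have h2 : d 2 = ((s ^ 2)⁻¹ : Fˣ) := rfl
    rw [h0, h1, h2, ← Units.val_mul, ← Units.val_mul, ← pow_two, mul_inv_cancel, Units.val_one]
  obtain ⟨g, hg⟩ := D.surj _ hdet
  refine ⟨g, d, hg, rfl, ?_⟩
  show (s : F) ≠ ((s ^ 2)⁻¹ : Fˣ)
  intro h
  apply hs
  have h3 : s = (s ^ 2)⁻¹ := Units.ext h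
  calc s ^ 3 = s ^ 2 * s := pow_succ s 2
    _ = s ^ 2 * (s ^ 2)⁻¹ := by rw [← h3]
    _ = 1 := mul_inv_cancel _

/-- the torus element for `n = 4`, `q - 1 ∤ 2` -/
theorem exists_torus_four {G : Type u} [Group G] (D : MatGrp F (2 + 2) G)
    (hq : ¬ (Fintype.card F - 1) ∣ 2) :
    ∃ g : G, ∃ d : Fin (2 + 2) → F, D.φ g = Matrix.diagonal d ∧ d 0 = d 1 ∧
      d (Fin.last 2).castSucc ≠ d (Fin.last (2 + 1)) := by
  obtain ⟨s, hs⟩ := exists_pow_ne_one (F := F) 2 hq
  let d : Fin (2 + 2) → F := fun i => if i = 2 then (s : F) else if i = 3 then ((s⁻¹ : Fˣ) : F) else 1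
  have hdet : (Matrix.diagonal d).det = 1 := by
    rw [Matrix.det_diagonal]
    show ∏ i : Fin 4, d i = 1
    rw [Fin.prod_univ_four]
    have h0 : d 0 = 1 := rfl
    have h1 : d 1 = 1 := rfl
    have h2 : d 2 = s := rfl
    have h3 : d 3 = ((s⁻¹ : Fˣ) : F) := rfl
    rw [h0, h1, h2, h3, one_mul, one_mul, ← Units.val_mul, mul_inv_cancel, Units.val_one]
  obtain ⟨g, hg⟩ := D.surj _ hdet
  refine ⟨g, d, hg, rfl, ?_⟩
  show (s : F) ≠ ((s⁻¹ : Fˣ) : F)
  intro h
  apply hs
  have h3 : s = s⁻¹ := Units.ext h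
  calc s ^ 2 = s * s := pow_two s
    _ = s * s⁻¹ := by nth_rewrite 2 [h3]; rfl
    _ = 1 := mul_inv_cancel _


/-- the generic conclusion of the step for a non-exceptional level -/
theorem level_generic {m : ℕ} {G : Type u} [Group G] [Fintype G] (D : MatGrp F (m + 2) G) (hm : 1 ≤ m)
    (h3a : D.Has3a)
    (hS : ∀ d ∈ LevelDegs (GL (Fin (m + 1)) F), GoodDeg (Fintype.card F) (m + 1) d)
    (hex : ¬ (m + 1 = 2 ∧ Fintype.card F = 2) ∧ ¬ (m + 1 = 2 ∧ Fintype.card F = 4) ∧
      ¬ (m + 1 = 3 ∧ Fintype.card F = 2))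
    {χ : G → ℂ} (hχ : IsIrrCharacter G χ) (hχ1 : charDegree χ ≠ 1) :
    Nq (Fintype.card F) (m + 2) ≤ charDegree χ := by
  letI : Fintype D.Q := Fintype.ofFinite _
  obtain ⟨a, e, ha, hdeg, he, hdvd, h3⟩ := D.step_ae (Or.inl hm) hχ hχ1
  refine main_arith (Fintype.card F) (m + 1) card_F_ge_two card_primePow (by omega)
    (charDegree χ) a e D.P.index (LevelDegs (GL (Fin (m + 1)) F)) hdeg he D.index_P hdvd
    (h3 hm h3a) ?_ hS hex
  intro ha0
  refine D.step_levi hm ?_ hχ hχ1 a ha ha0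
  rintro ⟨h1, h2⟩
  exact hex.1 ⟨by omega, h2⟩

/-- the non-linear irreducible characters of `GL_n(q)` have good degrees -/
theorem gl_level : ∀ m : ℕ, ∀ d ∈ LevelDegs (GL (Fin (m + 2)) F),
    GoodDeg (Fintype.card F) (m + 2) d := by
  intro m
  induction m with
  | zero =>
    rintro d ⟨χ, hχ, hχ1, rfl⟩
    letI : Fintype (glMatGrp F (0 + 2)).Q := Fintype.ofFinite _
    obtain ⟨a, e, -, hdeg, he, -, -⟩ :=
      (glMatGrp F (0 + 2)).step_ae (Or.inr (glMatGrp_full F _)) hχ hχ1
    have : GoodDeg (Fintype.card F) 2 (charDegree χ) := by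
      unfold GoodDeg
      rw [if_pos rfl, hdeg]
      have : 1 * (Fintype.card F ^ (0 + 1) - 1) ≤ e * (Fintype.card F ^ (0 + 1) - 1) :=
        Nat.mul_le_mul_right _ he
      simp only [zero_add, pow_one, one_mul] at this ⊢
      omega
    exact this
  | succ m ih =>
    rintro d ⟨χ, hχ, hχ1, rfl⟩
    have hq2 : 2 ≤ Fintype.card F := card_F_ge_two
    set q := Fintype.card F with hq
    let D := glMatGrp F (m + 1 + 2)
    have hfull : D.Full := glMatGrp_full F _
    letI : Fintype D.Q := Fintype.ofFinite _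
    obtain ⟨a, e, ha, hdeg, he, hdvd, h3⟩ := D.step_ae (Or.inr hfull) hχ hχ1
    have hidx := D.index_P
    -- special levels
    by_cases h32 : m = 0 ∧ q = 2
    · obtain ⟨rfl, hq2'⟩ := h32
      show GoodDeg q 3 (charDegree χ)
      unfold GoodDeg
      rw [if_neg (by omega), if_pos rfl, if_pos hq2', hdeg]
      rw [← hq, hq2'] at *
      have : 1 * (2 ^ (0 + 1 + 1) - 1) ≤ e * (2 ^ (0 + 1 + 1) - 1) := Nat.mul_le_mul_right _ he
      norm_num at this ⊢
      omega
    by_cases h42 : m = 1 ∧ q = 2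
    · obtain ⟨rfl, hq2'⟩ := h42
      show GoodDeg q 4 (charDegree χ)
      unfold GoodDeg
      rw [if_neg (by omega), if_neg (by omega), if_pos rfl, if_pos hq2']
      rw [← hq, hq2'] at hidx hdvd hdeg
      norm_num at hidx hdvd hdeg
      rw [hidx] at hdvd
      by_cases he2 : 2 ≤ e
      · have : 2 * 7 ≤ e * 7 := Nat.mul_le_mul_right _ he2
        omega
      have he1 : e = 1 := by omega
      subst he1
      by_cases ha7 : 7 ≤ a
      · omega
      have ha6 : a ≤ 6 := by omega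
      norm_num at hdvd
      rw [hdeg] at hdvd ⊢
      interval_cases a <;> omega
    by_cases h34 : m = 0 ∧ q = 4
    · obtain ⟨rfl, hq4⟩ := h34
      show GoodDeg q 3 (charDegree χ)
      unfold GoodDeg
      rw [if_neg (by omega), if_pos rfl, if_neg (by omega), if_pos hq4]
      have hT := exists_torus_full D hfull (le_refl 1) (by rw [← hq, hq4]; norm_num)
      have h3a : D.Has3a := D.has3a (le_refl 1) (Or.inr hT)
      rw [← hq, hq4] at hidx hdvd hdeg
      norm_num at hidx hdeg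
      by_cases he2 : 2 ≤ e
      · have : 2 * 15 ≤ e * 15 := Nat.mul_le_mul_right _ he2
        omega
      have he1 : e = 1 := by omega
      subst he1
      have ha0 := h3 (le_refl 1) h3a rfl
      have hlev := D.step_levi (le_refl 1) (by rw [← hq, hq4]; omega) hχ hχ1 a ha ha0
      rcases hlev with hW | hL
      · omega
      · have hS' : ∀ d ∈ LevelDegs (GL (Fin (0 + 1 + 1)) F), 3 ≤ d := by
          intro d hd
          have := ih d hd
          unfold GoodDeg at this
          rw [if_pos rfl, hq4] at this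
          exact this
        have := closure_ge _ 3 hS' a hL ha0
        omega
    -- the generic case
    have hm1 : 1 ≤ m + 1 := by omega
    have h3a : D.Has3a := by
      apply D.has3a hm1
      by_cases hq3 : 3 ≤ q
      · exact Or.inr (exists_torus_full D hfull hm1 hq3)
      · left
        have hq2'' : q = 2 := by omega
        by_contra hcon
        have : m = 0 ∨ m = 1 := by omega
        rcases this with h | h
        · exact h32 ⟨h, hq2''⟩
        · exact h42 ⟨h, hq2''⟩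
    have hex : ¬ (m + 1 + 1 = 2 ∧ q = 2) ∧ ¬ (m + 1 + 1 = 2 ∧ q = 4) ∧ ¬ (m + 1 + 1 = 3 ∧ q = 2) := by
      refine ⟨fun h => h32 ⟨by omega, h.2⟩, fun h => h34 ⟨by omega, h.2⟩, fun h => h42 ⟨by omega, h.2⟩⟩
    have hN := level_generic D hm1 h3a ih hex hχ hχ1
    exact goodDeg_of_Nq q (m + 1 + 2) _ (by omega) hN (fun h => h32 ⟨by omega, h.2⟩)
      (fun h => h34 ⟨by omega, h.2⟩) (fun h => h42 ⟨by omega, h.2⟩)


/-- the top level: non-linear irreducible characters of `SL_n(q)`, `(n,q)` non-exceptional -/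
theorem sl_top (m : ℕ) (hm : 1 ≤ m)
    (hex : (m + 2, Fintype.card F) ≠ (3, 2) ∧ (m + 2, Fintype.card F) ≠ (3, 4) ∧
      (m + 2, Fintype.card F) ≠ (4, 2) ∧ (m + 2, Fintype.card F) ≠ (4, 3))
    {χ : Matrix.SpecialLinearGroup (Fin (m + 2)) F → ℂ}
    (hχ : IsIrrCharacter (Matrix.SpecialLinearGroup (Fin (m + 2)) F) χ) (hχ1 : charDegree χ ≠ 1) :
    Nq (Fintype.card F) (m + 2) ≤ charDegree χ := by
  have hq2 : 2 ≤ Fintype.card F := card_F_ge_two
  obtain ⟨h32, h34, h42, h43⟩ := hex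
  have h32' : ¬ (m = 1 ∧ Fintype.card F = 2) := by
    rintro ⟨rfl, h⟩; exact h32 (by rw [h])
  have h34' : ¬ (m = 1 ∧ Fintype.card F = 4) := by
    rintro ⟨rfl, h⟩; exact h34 (by rw [h])
  have h42' : ¬ (m = 2 ∧ Fintype.card F = 2) := by
    rintro ⟨rfl, h⟩; exact h42 (by rw [h])
  have h43' : ¬ (m = 2 ∧ Fintype.card F = 3) := by
    rintro ⟨rfl, h⟩; exact h43 (by rw [h])
  let D := slMatGrp F (m + 2)
  have h3a : D.Has3a := by
    apply D.has3a hm
    by_cases hm3 : 3 ≤ m
    · exact Or.inl hm3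
    right
    have : m = 1 ∨ m = 2 := by omega
    rcases this with rfl | rfl
    · apply exists_torus_three D
      intro hdvd
      have h1 : Fintype.card F - 1 ≤ 3 := Nat.le_of_dvd (by norm_num) hdvd
      have : Fintype.card F - 1 = 1 ∨ Fintype.card F - 1 = 2 ∨ Fintype.card F - 1 = 3 := by omega
      rcases this with h | h | h
      · exact h32' ⟨rfl, by omega⟩
      · rw [h] at hdvd; omega
      · exact h34' ⟨rfl, by omega⟩
    · apply exists_torus_four D
      intro hdvd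
      have h1 : Fintype.card F - 1 ≤ 2 := Nat.le_of_dvd (by norm_num) hdvd
      have : Fintype.card F - 1 = 1 ∨ Fintype.card F - 1 = 2 := by omega
      rcases this with h | h
      · exact h42' ⟨rfl, by omega⟩
      · exact h43' ⟨rfl, by omega⟩
  obtain ⟨m', rfl⟩ : ∃ m', m = m' + 1 := ⟨m - 1, by omega⟩
  refine level_generic D hm h3a (gl_level m') ?_ hχ hχ1
  refine ⟨fun h => h32' ⟨by omega, h.2⟩, fun h => h34' ⟨by omega, h.2⟩, fun h => h42' ⟨by omega, h.2⟩⟩

end Cfsg.Agent.Helper80.LS
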